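import Cfsg.Agent.Lib.PlaneFour.Count

/-!
A bijection between two hyperovals extends uniquely to an isomorphism of the planes.
-/

namespace Cfsg.Agent.Lib.PlaneFour.Extend

open Finset Cfsg.Agent.Lib.PlaneFour.Basic

set_option linter.unusedSectionVars false

variable {α : Type*} [Fintype α] [DecidableEq α] {L : Set (Finset α)} {H : Finset α}

open Classical in
/-- The second point of `H` on the secant through `h` and `x`. -/
noncomputable def partner (L : Set (Finset α)) (H : Finset α) (x : α) (h : ↥H) : ↥H :=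
  if hex : ∃ k : ↥H, k ≠ h ∧ (k : α) ∈ line L x h then hex.choose else h

lemma secant (P : IsPlane L) (hH : Oval L H) {l : Finset α} (hl : l ∈ L) (a : ↥H)
    (ha : (a : α) ∈ l) : ∃ k : ↥H, k ≠ a ∧ (k : α) ∈ l := by
  have hne : ∀ k ∈ H.erase (a : α), (a : α) ≠ k := fun k hk => (mem_erase.1 hk).1.symm
  have hinj : Set.InjOn (line L (a : α)) (H.erase (a : α) : Finset α) := by
    intro v hv w hw he
    have hv' := mem_erase.1 (mem_coe.1 hv)
    have hw' := mem_erase.1 (mem_coe.1 hw)
    by_contra h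
    rcases hH.2.of_mem (P.line_spec (hne v hv)).1 a.2 hv'.2 hw'.2 (P.line_spec (hne v hv)).2.1
      (P.line_spec (hne v hv)).2.2 (he ▸ (P.line_spec (hne w hw)).2.2) (hne v hv) with h' | h'
    exacts [hw'.1 h', h h'.symm]
  have : (H.erase (a : α)).image (line L (a : α)) = pencil L (a : α) := by
    apply eq_of_subset_of_card_le
    · intro n hn
      obtain ⟨k, hk, rfl⟩ := mem_image.1 hn
      exact mem_pencil.2 ⟨(P.line_spec (hne k hk)).1, (P.line_spec (hne k hk)).2.1⟩
    · rw [P.card_pencil, card_image_of_injOn hinj, card_erase_of_mem a.2, hH.1]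
  have hm : l ∈ (H.erase (a : α)).image (line L (a : α)) := this ▸ mem_pencil.2 ⟨hl, ha⟩
  obtain ⟨k, hk, rfl⟩ := mem_image.1 hm
  exact ⟨⟨k, (mem_erase.1 hk).2⟩, fun h => (mem_erase.1 hk).1 (congrArg Subtype.val h),
    (P.line_spec (hne k hk)).2.2⟩

section
variable (P : IsPlane L) (hH : Oval L H) {x : α} (hx : x ∉ H)
include P hH hx

lemma partner_spec (h : ↥H) :
    partner L H x h ≠ h ∧ (partner L H x h : α) ∈ line L x h := by
  have hxh : x ≠ h := fun e => hx (e ▸ h.2)
  have hex := secant P hH (P.line_spec hxh).1 h (P.line_spec hxh).2.2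
  unfold partner
  rw [dif_pos hex]
  exact hex.choose_spec

lemma partner_eq_iff {h k : ↥H} (hk : k ≠ h) :
    partner L H x h = k ↔ x ∈ line L (h : α) k := by
  have hxh : x ≠ h := fun e => hx (e ▸ h.2)
  have hhk : (h : α) ≠ k := fun e => hk (Subtype.ext e.symm)
  obtain ⟨p1, p2⟩ := partner_spec P hH hx h
  obtain ⟨l1, l2, l3⟩ := P.line_spec hxh
  constructor
  · rintro rfl
    rw [P.eq_line hhk l1 l3 p2]
    exact l2
  · intro hxl
    obtain ⟨m1, m2, m3⟩ := P.line_spec hhk
    rw [P.eq_line hxh m1 hxl m2] at p2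
    rcases hH.2.of_mem m1 h.2 k.2 (partner L H x h).2 m2 m3 p2 hhk with e | e
    exacts [absurd (Subtype.ext e) p1, Subtype.ext e]

lemma partner_invol (h : ↥H) : partner L H x (partner L H x h) = h := by
  obtain ⟨p1, p2⟩ := partner_spec P hH hx h
  have hne : (partner L H x h : α) ≠ h := fun e => p1 (Subtype.ext e)
  rw [partner_eq_iff P hH hx p1.symm]
  obtain ⟨l1, l2, l3⟩ := P.line_spec (fun e : x = h => hx (e ▸ h.2))
  rw [P.eq_line hne l1 p2 l3]
  exact l2

end

lemma partner_inj (P : IsPlane L) (hH : Oval L H) {x y : α} (hx : x ∉ H) (hy : y ∉ H)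
    (h : partner L H x = partner L H y) : x = y := by
  obtain ⟨a, ha⟩ := card_pos.1 (by rw [hH.1]; norm_num : 0 < H.card)
  set a' : ↥H := ⟨a, ha⟩
  set b := partner L H x a'
  obtain ⟨c, hc, hca, hcb⟩ : ∃ c ∈ H, c ≠ a ∧ c ≠ b := by
    obtain ⟨c, hc⟩ := card_pos.1 (show 0 < ((H.erase a).erase (b : α)).card by
      have e1 := pred_card_le_card_erase (s := H) (a := a)
      have e2 := pred_card_le_card_erase (s := H.erase a) (a := (b : α))
      have := hH.1
      omega)
    simp only [mem_erase] at hc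
    exact ⟨c, hc.2.2, hc.2.1, hc.1⟩
  set c' : ↥H := ⟨c, hc⟩
  set d := partner L H x c'
  have hb := (partner_spec P hH hx a').1
  have hd := (partner_spec P hH hx c').1
  have hab : (a' : α) ≠ b := fun e => hb (Subtype.ext e.symm)
  have hcd : (c' : α) ≠ d := fun e => hd (Subtype.ext e.symm)
  have x1 := (partner_eq_iff P hH hx hb).1 rfl
  have x2 := (partner_eq_iff P hH hx hd).1 rfl
  have y1 := (partner_eq_iff P hH hy hb).1 (congrFun h a').symm
  have y2 := (partner_eq_iff P hH hy hd).1 (congrFun h c').symm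
  refine P.point_uniq (fun e : line L (a' : α) b = line L (c' : α) d => ?_)
    (P.line_spec hab).1 (P.line_spec hcd).1 x1 y1 x2 y2
  rcases hH.2.of_mem (P.line_spec hab).1 a'.2 b.2 c'.2 (P.line_spec hab).2.1 (P.line_spec hab).2.2
    (e ▸ (P.line_spec hcd).2.1) hab with e' | e'
  exacts [hca e', hcb e']

lemma exists_pt (P : IsPlane L) (hH : Oval L H) (f : ↥H → ↥H) (hf1 : ∀ h, f h ≠ h)
    (hf2 : ∀ h, f (f h) = h) : ∃ x, x ∉ H ∧ partner L H x = f := by
  obtain ⟨a₀, ha₀⟩ := card_pos.1 (by rw [hH.1]; norm_num : 0 < H.card)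
  set a : ↥H := ⟨a₀, ha₀⟩
  obtain ⟨c, hca, hcb⟩ : ∃ c : ↥H, c ≠ a ∧ c ≠ f a := by
    obtain ⟨c, hc⟩ := card_pos.1 (show 0 < ((univ.erase a).erase (f a)).card by
      have e1 := pred_card_le_card_erase (s := (univ : Finset ↥H)) (a := a)
      have e2 := pred_card_le_card_erase (s := (univ : Finset ↥H).erase a) (a := f a)
      rw [card_univ, Fintype.card_coe, hH.1] at e1
      omega)
    simp only [mem_erase] at hc
    exact ⟨c, hc.2.1, hc.1⟩
  have hdb : f c ≠ a ∧ f c ≠ f a :=
    ⟨fun e => hcb (by rw [← e, hf2]), fun e => hca (by rw [← hf2 c, e, hf2])⟩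
  have hab : (a : α) ≠ f a := fun e => hf1 a (Subtype.ext e.symm)
  have hcd : (c : α) ≠ f c := fun e => hf1 c (Subtype.ext e.symm)
  obtain ⟨l1, l2, l3⟩ := P.line_spec hab
  obtain ⟨m1, m2, m3⟩ := P.line_spec hcd
  obtain ⟨x, hxl, hxm⟩ := P.meet l1 m1
  have hx : x ∉ H := by
    intro hxH
    rcases hH.2.of_mem l1 a.2 (f a).2 hxH l2 l3 hxl hab with rfl | rfl
    · rcases hH.2.of_mem m1 c.2 (f c).2 a.2 m2 m3 hxm hcd with e | e
      exacts [hca (Subtype.ext e).symm, hdb.1 (Subtype.ext e).symm]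
    · rcases hH.2.of_mem m1 c.2 (f c).2 (f a).2 m2 m3 hxm hcd with e | e
      exacts [hcb (Subtype.ext e).symm, hdb.2 (Subtype.ext e).symm]
  have pa := (partner_eq_iff P hH hx (hf1 a)).2 hxl
  have pc := (partner_eq_iff P hH hx (hf1 c)).2 hxm
  refine ⟨x, hx, funext fun h => ?_⟩
  by_cases h1 : h = a; · rw [h1, pa]
  by_cases h2 : h = f a; · rw [h2, hf2, ← pa, partner_invol P hH hx]
  by_cases h3 : h = c; · rw [h3, pc]
  by_cases h4 : h = f c; · rw [h4, hf2, ← pc, partner_invol P hH hx]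
  set T : Finset ↥H := univ \ {a, f a, c, f c, h} with hTdef
  have hT : T.card = 1 := by
    rw [hTdef, card_sdiff_of_subset (subset_univ _), card_univ, Fintype.card_coe, hH.1,
      card_insert_of_notMem (by simp [(hf1 a).symm, hca.symm, hdb.1.symm, Ne.symm h1]),
      card_insert_of_notMem (by simp [hcb.symm, hdb.2.symm, Ne.symm h2]),
      card_insert_of_notMem (by simp [(hf1 c).symm, Ne.symm h3]), card_pair (Ne.symm h4)]
  have inT : ∀ g : ↥H → ↥H, (∀ k, g k ≠ k) → (∀ k, g (g k) = k) → g a = f a → g c = f c →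
      g h ∈ T := by
    intro g g1 g2 ga gc
    have gg : ∀ k, g h = k → h = g k := fun k e => by rw [← e, g2]
    simp only [hTdef, mem_sdiff, mem_univ, true_and, mem_insert, mem_singleton, not_or]
    refine ⟨fun e => h2 (by rw [gg _ e, ga]), fun e => h1 ?_, fun e => h4 (by rw [gg _ e, gc]),
      fun e => h3 ?_, g1 h⟩
    · rw [gg _ e, ← ga, g2]
    · rw [gg _ e, ← gc, g2]
  obtain ⟨t, ht⟩ := card_eq_one.1 hT
  have e1 := inT (partner L H x) (fun k => (partner_spec P hH hx k).1) (partner_invol P hH hx) pa pc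
  have e2 := inT f hf1 hf2 rfl rfl
  rw [ht, mem_singleton] at e1 e2
  rw [e1, e2]

lemma two_external (P : IsPlane L) (hH : Oval L H) {x : α} (hx : x ∉ H) :
    ((pencil L x).filter fun l => ∀ h ∈ H, h ∉ l).card ≤ 2 := by
  classical
  set S := H.image (line L x) with hS
  have hne : ∀ h ∈ H, x ≠ h := fun h hh e => hx (e ▸ hh)
  have h3 : H.card ≤ 2 * S.card := by
    refine card_le_mul_card_image H 2 fun l hl => ?_
    obtain ⟨k, hk, rfl⟩ := mem_image.1 hl
    refine (card_le_card ?_).trans (hH.2 _ (P.line_spec (hne k hk)).1)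
    intro h hh
    simp only [mem_filter] at hh
    exact mem_inter.2 ⟨hh.2 ▸ (P.line_spec (hne h hh.1)).2.2, hh.1⟩
  have hsub : S ⊆ pencil L x := by
    intro l hl
    obtain ⟨k, hk, rfl⟩ := mem_image.1 hl
    exact mem_pencil.2 ⟨(P.line_spec (hne k hk)).1, (P.line_spec (hne k hk)).2.1⟩
  have hE : ((pencil L x).filter fun l => ∀ h ∈ H, h ∉ l) ⊆ pencil L x \ S := by
    intro l hl
    rw [mem_filter] at hl
    refine mem_sdiff.2 ⟨hl.1, fun hlS => ?_⟩
    obtain ⟨k, hk, rfl⟩ := mem_image.1 hlS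
    exact hl.2 k hk (P.line_spec (hne k hk)).2.2
  have := card_le_card hE
  rw [card_sdiff_of_subset hsub, P.card_pencil] at this
  rw [hH.1] at h3
  omega

/-- Five points off `H`, no two on a secant, lie on a line. -/
lemma collinear (P : IsPlane L) (hH : Oval L H) {C : Finset α} (hC : C.card = 5)
    (hoff : ∀ x ∈ C, x ∉ H)
    (hno : ∀ x ∈ C, ∀ y ∈ C, x ≠ y → ∀ h : ↥H, partner L H x h ≠ partner L H y h) : C ∈ L := by
  classical
  have ext_line : ∀ x ∈ C, ∀ y ∈ C, x ≠ y → ∀ h ∈ H, h ∉ line L x y := by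
    intro x hx y hy hxy h hh hl
    obtain ⟨l1, l2, l3⟩ := P.line_spec hxy
    have hxh : x ≠ h := fun e => hoff x hx (e ▸ hh)
    have hyh : y ≠ h := fun e => hoff y hy (e ▸ hh)
    apply hno x hx y hy hxy ⟨h, hh⟩
    obtain ⟨p1, p2⟩ := partner_spec P hH (hoff x hx) ⟨h, hh⟩
    rw [eq_comm, partner_eq_iff P hH (hoff y hy) p1]
    have hne : h ≠ (partner L H x ⟨h, hh⟩ : α) := fun e => p1 (Subtype.ext e.symm)
    rw [P.eq_line hxh l1 l2 hl] at p2
    rw [P.eq_line hne l1 hl p2]
    exact l3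
  have two : ∀ x ∈ C, ((C.erase x).image (line L x)).card ≤ 2 := by
    intro x hx
    refine (card_le_card ?_).trans (two_external P hH (hoff x hx))
    intro l hl
    obtain ⟨y, hy, rfl⟩ := mem_image.1 hl
    rw [mem_erase] at hy
    exact mem_filter.2 ⟨mem_pencil.2 ⟨(P.line_spec hy.1.symm).1, (P.line_spec hy.1.symm).2.1⟩,
      ext_line x hx y hy.2 hy.1.symm⟩
  obtain ⟨X, hX⟩ := card_pos.1 (by rw [hC]; norm_num : 0 < C.card)
  obtain ⟨Y, hY, Z, hZ, hYZ, e⟩ := exists_ne_map_eq_of_card_lt_of_maps_to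
    (s := C.erase X) (t := (C.erase X).image (line L X))
    (by have := two X hX; rw [card_erase_of_mem hX, hC]; omega)
    (fun v hv => mem_image_of_mem _ hv)
  rw [mem_erase] at hY hZ
  set l := line L X Y with hl
  obtain ⟨l1, l2, l3⟩ := P.line_spec hY.1.symm
  have hZl : Z ∈ l := by
    rw [show l = line L X Z from e]; exact (P.line_spec hZ.1.symm).2.2
  have all : C ⊆ l := by
    intro W hW
    by_contra hWl
    have hne : ∀ V, V ∈ l → W ≠ V := fun V hV h => hWl (h ▸ hV)
    have hd : ∀ U V, U ∈ l → V ∈ l → U ≠ V → line L W U ≠ line L W V := by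
      intro U V hU hV hUV h
      have := P.line_uniq hUV (P.line_spec (hne U hU)).1 l1 (P.line_spec (hne U hU)).2.2
        (h ▸ (P.line_spec (hne V hV)).2.2) hU hV
      exact hWl (hl.symm ▸ this ▸ (P.line_spec (hne U hU)).2.1)
    have : ({line L W X, line L W Y, line L W Z} : Finset (Finset α)).card ≤ 2 := by
      refine (card_le_card ?_).trans (two W hW)
      simp only [insert_subset_iff, singleton_subset_iff, mem_image]
      exact ⟨⟨X, mem_erase.2 ⟨(hne X l2).symm, hX⟩, rfl⟩,
        ⟨Y, mem_erase.2 ⟨(hne Y l3).symm, hY.2⟩, rfl⟩,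
        ⟨Z, mem_erase.2 ⟨(hne Z hZl).symm, hZ.2⟩, rfl⟩⟩
    rw [card_insert_of_notMem (by simp [hd X Y l2 l3 hY.1.symm, hd X Z l2 hZl hZ.1.symm]),
      card_pair (hd Y Z l3 hZl hYZ)] at this
    omega
  rw [eq_of_subset_of_card_le all (by rw [P.steiner.1 l l1, hC])]
  exact l1

variable {β : Type*} [Fintype β] [DecidableEq β] {L' : Set (Finset β)} {H' : Finset β}

/-- A map sending lines to lines is an isomorphism of the line sets. -/
lemma image_lines (P : IsPlane L) (P' : IsPlane L') (e : α ≃ β)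
    (h : ∀ l ∈ L, l.image e ∈ L') : (fun b => b.image e) '' L = L' := by
  ext m
  constructor
  · rintro ⟨l, hl, rfl⟩; exact h l hl
  · intro hm
    obtain ⟨p, hp, q, hq, hpq⟩ := one_lt_card.1 (by rw [P'.steiner.1 m hm]; norm_num : 1 < m.card)
    obtain ⟨l1, l2, l3⟩ := P.line_spec (e.symm.injective.ne hpq)
    refine ⟨_, l1, P'.line_uniq hpq (h _ l1) hm ?_ ?_ hp hq⟩
    · exact mem_image.2 ⟨_, l2, by simp⟩
    · exact mem_image.2 ⟨_, l3, by simp⟩

theorem existsUnique_extend (P : IsPlane L) (P' : IsPlane L') (hH : Oval L H) (hH' : Oval L' H')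
    (σ : ↥H ≃ ↥H') :
    ∃! e : α ≃ β, (fun b => b.image e) '' L = L' ∧ ∀ p : ↥H, e p = σ p := by
  classical
  have img : ∀ x, x ∉ H → ∃ y, y ∉ H' ∧ partner L' H' y = fun h => σ (partner L H x (σ.symm h)) :=
    fun x hx => exists_pt P' hH' _
      (fun h e => (partner_spec P hH hx (σ.symm h)).1 (σ.injective (e.trans (by simp))))
      (fun h => by simp [partner_invol P hH hx])
  choose F hF1 hF2 using img
  set g : α → β := fun x => if h : x ∈ H then (σ ⟨x, h⟩ : β) else F x h with hgdef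
  have gH : ∀ p : ↥H, g p = σ p := fun p => by simp only [hgdef, dif_pos p.2]
  have gO : ∀ x (hx : x ∉ H), g x = F x hx := fun x hx => by simp only [hgdef, dif_neg hx]
  have ginj : Function.Injective g := by
    intro x y h
    by_cases hx : x ∈ H <;> by_cases hy : y ∈ H
    · rw [gH ⟨x, hx⟩, gH ⟨y, hy⟩] at h
      exact congrArg Subtype.val (σ.injective (Subtype.ext h))
    · rw [gH ⟨x, hx⟩, gO y hy] at h
      exact absurd (h ▸ (σ ⟨x, hx⟩).2) (hF1 y hy)
    · rw [gH ⟨y, hy⟩, gO x hx] at h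
      exact absurd (h.symm ▸ (σ ⟨y, hy⟩).2) (hF1 x hx)
    · rw [gO x hx, gO y hy] at h
      have := (hF2 x hx).symm.trans (h ▸ hF2 y hy)
      refine partner_inj P hH hx hy (funext fun k => σ.injective ?_)
      simpa using congrFun this (σ k)
  have hcard : Fintype.card α = Fintype.card β := by rw [P.card, P'.card]
  set e : α ≃ β := Equiv.ofBijective g ((Fintype.bijective_iff_injective_and_card g).2
    ⟨ginj, hcard⟩) with hedef
  have hl : ∀ l ∈ L, l.image e ∈ L' := by
    intro l hl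
    have hc : (l.image e).card = 5 := by
      rw [card_image_of_injective _ e.injective, P.steiner.1 l hl]
    by_cases hs : ∃ a : ↥H, (a : α) ∈ l
    · obtain ⟨a, ha⟩ := hs
      obtain ⟨b, hba, hb⟩ := secant P hH hl a ha
      have hne : (σ a : β) ≠ σ b := fun h => hba (σ.injective (Subtype.ext h)).symm
      have : l.image e ⊆ line L' (σ a : β) (σ b) := by
        intro y hy
        obtain ⟨x, hxl, rfl⟩ := mem_image.1 hy
        show g x ∈ _
        have hab : (a : α) ≠ b := fun h => hba (Subtype.ext h).symm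
        by_cases hx : x ∈ H
        · rw [gH ⟨x, hx⟩]
          rcases hH.2.of_mem hl a.2 b.2 hx ha hb hxl hab with h | h
          · rw [show (⟨x, hx⟩ : ↥H) = a from Subtype.ext h]; exact (P'.line_spec hne).2.1
          · rw [show (⟨x, hx⟩ : ↥H) = b from Subtype.ext h]; exact (P'.line_spec hne).2.2
        · rw [gO x hx]
          have hp : partner L H x a = b :=
            (partner_eq_iff P hH hx hba).2 (by rw [P.eq_line hab hl ha hb]; exact hxl)
          refine (partner_eq_iff P' hH' (hF1 x hx) (fun h => hba (σ.injective h))).1 ?_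
          rw [hF2 x hx]
          simp [hp]
      rw [eq_of_subset_of_card_le this (by rw [hc, P'.steiner.1 _ (P'.line_spec hne).1])]
      exact (P'.line_spec hne).1
    · push Not at hs
      have off : ∀ x ∈ l, x ∉ H := fun x hx h => hs ⟨x, h⟩ hx
      refine collinear P' hH' hc ?_ ?_
      · intro y hy
        obtain ⟨x, hxl, rfl⟩ := mem_image.1 hy
        show g x ∉ H'
        rw [gO x (off x hxl)]
        exact hF1 _ _
      · intro y hy y' hy' hne k hk
        obtain ⟨x, hxl, rfl⟩ := mem_image.1 hy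
        obtain ⟨x', hxl', rfl⟩ := mem_image.1 hy'
        change partner L' H' (g x) k = partner L' H' (g x') k at hk
        rw [gO x (off x hxl), gO x' (off x' hxl'), hF2 x _, hF2 x' _] at hk
        have hp := σ.injective hk
        obtain ⟨h, rfl⟩ := σ.surjective k
        rw [σ.symm_apply_apply] at hp
        obtain ⟨p1, p2⟩ := partner_spec P hH (off x hxl) h
        have e1 := (partner_eq_iff P hH (off x hxl) p1).1 rfl
        have e2 := (partner_eq_iff P hH (off x' hxl') p1).1 hp.symm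
        have hne' : (h : α) ≠ partner L H x h := fun e' => p1 (Subtype.ext e'.symm)
        obtain ⟨m1, m2, m3⟩ := P.line_spec hne'
        have := P.line_uniq (fun e' : x = x' => hne (congrArg e e')) hl m1 hxl hxl' e1 e2
        exact hs h (this ▸ m2)
  refine ⟨e, ⟨image_lines P P' e hl, gH⟩, ?_⟩
  rintro f ⟨hf, hfH⟩
  ext x
  show f x = g x
  by_cases hx : x ∈ H
  · rw [gH ⟨x, hx⟩]; exact hfH ⟨x, hx⟩
  · rw [gO x hx]
    have hfx : f x ∉ H' := fun h => by
      obtain ⟨p, hp⟩ := σ.surjective ⟨f x, h⟩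
      have := hfH p
      rw [hp] at this
      exact hx (f.injective this ▸ p.2)
    refine partner_inj P' hH' hfx (hF1 x hx) (funext fun k => ?_)
    obtain ⟨h, rfl⟩ := σ.surjective k
    rw [hF2 x hx]
    simp only [σ.symm_apply_apply]
    obtain ⟨p1, p2⟩ := partner_spec P hH hx h
    have hne : (h : α) ≠ partner L H x h := fun e' => p1 (Subtype.ext e'.symm)
    have hne' : (σ h : β) ≠ σ (partner L H x h) := fun e' =>
      p1 (σ.injective (Subtype.ext e')).symm
    rw [partner_eq_iff P' hH' hfx (fun e' => p1 (σ.injective e'))]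
    obtain ⟨l1, l2, l3⟩ := P.line_spec hne
    have him : (line L (h : α) (partner L H x h)).image f ∈ L' := hf ▸ ⟨_, l1, rfl⟩
    rw [P'.eq_line hne' him (mem_image.2 ⟨_, l2, hfH h⟩) (mem_image.2 ⟨_, l3, hfH _⟩)]
    exact mem_image_of_mem _ ((partner_eq_iff P hH hx p1).1 rfl)

end Cfsg.Agent.Lib.PlaneFour.Extend
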