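import Cfsg.Prelude.Def_Sporadic_a
import Mathlib

/-!
Projective planes of order 4: lines, quadrangles, hyperovals.
-/

namespace Cfsg.Agent.Lib.PlaneFour.Basic

open Finset

set_option linter.unusedSectionVars false

variable {α : Type*} [Fintype α] [DecidableEq α]

/-- The hypotheses of a plane of order 4. -/
structure IsPlane (L : Set (Finset α)) : Prop where
  card : Fintype.card α = 21
  steiner : Cfsg.IsSteinerSystem 2 5 L

open Classical in
/-- The line through two points (junk `∅`). -/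
noncomputable def line (L : Set (Finset α)) (p q : α) : Finset α :=
  if h : ∃ l ∈ L, p ∈ l ∧ q ∈ l then h.choose else ∅

open Classical in
/-- The lines through a point. -/
noncomputable def pencil (L : Set (Finset α)) (p : α) : Finset (Finset α) :=
  univ.filter fun l => l ∈ L ∧ p ∈ l

/-- No three points on a line. -/
def Indep (L : Set (Finset α)) (S : Finset α) : Prop := ∀ l ∈ L, (l ∩ S).card ≤ 2

/-- A hyperoval. -/
def Oval (L : Set (Finset α)) (H : Finset α) : Prop := H.card = 6 ∧ Indep L H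

variable {L : Set (Finset α)}

lemma IsPlane.line_spec (P : IsPlane L) {p q : α} (h : p ≠ q) :
    line L p q ∈ L ∧ p ∈ line L p q ∧ q ∈ line L p q := by
  obtain ⟨b, hb, -⟩ := P.steiner.2 {p, q} (card_pair h)
  have hex : ∃ l ∈ L, p ∈ l ∧ q ∈ l := ⟨b, hb.1, hb.2 (by simp), hb.2 (by simp)⟩
  unfold line
  rw [dif_pos hex]
  exact hex.choose_spec

lemma IsPlane.line_uniq (P : IsPlane L) {l m : Finset α} {p q : α} (h : p ≠ q) (hl : l ∈ L)
    (hm : m ∈ L) (hpl : p ∈ l) (hql : q ∈ l) (hpm : p ∈ m) (hqm : q ∈ m) : l = m := by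
  obtain ⟨b, -, hu⟩ := P.steiner.2 {p, q} (card_pair h)
  rw [hu l ⟨hl, by simp [insert_subset_iff, hpl, hql]⟩,
    hu m ⟨hm, by simp [insert_subset_iff, hpm, hqm]⟩]

lemma IsPlane.eq_line (P : IsPlane L) {l : Finset α} {p q : α} (h : p ≠ q) (hl : l ∈ L)
    (hp : p ∈ l) (hq : q ∈ l) : line L p q = l :=
  P.line_uniq h (P.line_spec h).1 hl (P.line_spec h).2.1 (P.line_spec h).2.2 hp hq

lemma IsPlane.point_uniq (P : IsPlane L) {l m : Finset α} {p q : α} (hne : l ≠ m) (hl : l ∈ L)
    (hm : m ∈ L) (hpl : p ∈ l) (hql : q ∈ l) (hpm : p ∈ m) (hqm : q ∈ m) : p = q := by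
  by_contra h
  exact hne (P.line_uniq h hl hm hpl hql hpm hqm)

lemma mem_pencil {p : α} {l : Finset α} : l ∈ pencil L p ↔ l ∈ L ∧ p ∈ l := by
  classical simp [pencil]

lemma IsPlane.card_pencil (P : IsPlane L) (p : α) : (pencil L p).card = 5 := by
  have h : (univ.erase p : Finset α) = (pencil L p).biUnion fun l => l.erase p := by
    ext q
    simp only [mem_erase, mem_univ, and_true, mem_biUnion, mem_pencil]
    constructor
    · intro hq
      exact ⟨line L p q, ⟨(P.line_spec (Ne.symm hq)).1, (P.line_spec (Ne.symm hq)).2.1⟩, hq,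
        (P.line_spec (Ne.symm hq)).2.2⟩
    · rintro ⟨l, -, hq, -⟩
      exact hq
  have h20 : (univ.erase p : Finset α).card = 20 := by
    rw [card_erase_of_mem (mem_univ p), card_univ, P.card]
  rw [h, card_biUnion] at h20
  · rw [sum_congr rfl (fun l hl => show (l.erase p).card = 4 by
      rw [card_erase_of_mem (mem_pencil.1 hl).2, P.steiner.1 l (mem_pencil.1 hl).1]),
      sum_const, smul_eq_mul] at h20
    omega
  · intro l hl m hm hne
    rw [Function.onFun, disjoint_left]
    intro q hql hqm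
    simp only [mem_erase] at hql hqm
    exact hne (P.line_uniq hql.1 (mem_pencil.1 hl).1 (mem_pencil.1 hm).1 hql.2
      (mem_pencil.1 hl).2 hqm.2 (mem_pencil.1 hm).2)

lemma IsPlane.meet (P : IsPlane L) {l m : Finset α} (hl : l ∈ L) (hm : m ∈ L) :
    ∃ x, x ∈ l ∧ x ∈ m := by
  by_cases hlm : l = m
  · obtain ⟨x, hx⟩ := card_pos.1 (by rw [P.steiner.1 l hl]; norm_num : 0 < l.card)
    exact ⟨x, hx, hlm ▸ hx⟩
  obtain ⟨p, hpl, hpm⟩ := not_subset.1 fun hs : l ⊆ m =>
    hlm (eq_of_subset_of_card_le hs (by rw [P.steiner.1 l hl, P.steiner.1 m hm]))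
  have hne : ∀ q ∈ m, p ≠ q := fun q hq h => hpm (h ▸ hq)
  have hmem : ∀ q (_ : q ∈ m), line L p q ∈ pencil L p := fun q hq =>
    mem_pencil.2 ⟨(P.line_spec (hne q hq)).1, (P.line_spec (hne q hq)).2.1⟩
  have hinj : ∀ q ∈ m, ∀ q' ∈ m, line L p q = line L p q' → q = q' := by
    intro q hq q' hq' he
    by_contra h
    have := P.line_uniq h (P.line_spec (hne q hq)).1 hm (P.line_spec (hne q hq)).2.2
      (he ▸ (P.line_spec (hne q' hq')).2.2) hq hq'
    exact hpm (this ▸ (P.line_spec (hne q hq)).2.1)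
  have himg : m.image (line L p) = pencil L p := by
    apply eq_of_subset_of_card_le
    · intro n hn
      obtain ⟨q, hq, rfl⟩ := mem_image.1 hn
      exact hmem q hq
    · rw [P.card_pencil, card_image_of_injOn hinj, P.steiner.1 m hm]
  have : l ∈ m.image (line L p) := himg ▸ mem_pencil.2 ⟨hl, hpl⟩
  obtain ⟨q, hq, rfl⟩ := mem_image.1 this
  exact ⟨q, (P.line_spec (hne q hq)).2.2, hq⟩

lemma Indep.mono {S T : Finset α} (h : Indep L T) (hs : S ⊆ T) : Indep L S := fun l hl =>
  (card_le_card (inter_subset_inter Subset.rfl hs)).trans (h l hl)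

lemma Indep.of_mem {S : Finset α} (h : Indep L S) {l : Finset α} (hl : l ∈ L) {a b c : α}
    (ha : a ∈ S) (hb : b ∈ S) (hc : c ∈ S) (hal : a ∈ l) (hbl : b ∈ l) (hcl : c ∈ l)
    (hab : a ≠ b) : c = a ∨ c = b := by
  by_contra hne
  push Not at hne
  have : ({a, b, c} : Finset α).card ≤ (l ∩ S).card :=
    card_le_card (by simp [insert_subset_iff, ha, hb, hc, hal, hbl, hcl])
  rw [card_insert_of_notMem (by simp [hab, Ne.symm hne.1]),
    card_pair (Ne.symm hne.2)] at this
  have := h l hl
  omega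

lemma indep_of {S : Finset α}
    (h : ∀ l ∈ L, ∀ a ∈ S, ∀ b ∈ S, ∀ c ∈ S, a ∈ l → b ∈ l → c ∈ l → a = b ∨ a = c ∨ b = c) :
    Indep L S := by
  intro l hl
  by_contra hc
  obtain ⟨a, ha, b, hb, c, hc', hab, hac, hbc⟩ := two_lt_card.1 (not_le.1 hc)
  simp only [mem_inter] at ha hb hc'
  rcases h l hl a ha.2 b hb.2 c hc'.2 ha.1 hb.1 hc'.1 with h | h | h
  exacts [hab h, hac h, hbc h]

/-- A point off the three sides of a triangle extends it to a quadrangle. -/
lemma indep_insert_iff {S : Finset α} (hS : Indep L S) (P : IsPlane L) {x : α} (hx : x ∉ S) :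
    Indep L (insert x S) ↔ ∀ a ∈ S, ∀ b ∈ S, a ≠ b → x ∉ line L a b := by
  constructor
  · intro h a ha b hb hab hxl
    have hl := P.line_spec hab
    rcases h.of_mem hl.1 (mem_insert_of_mem ha) (mem_insert_of_mem hb) (mem_insert_self x S)
      hl.2.1 hl.2.2 hxl hab with rfl | rfl
    exacts [hx ha, hx hb]
  · intro h
    apply indep_of
    intro l hl a ha b hb c hc hal hbl hcl
    by_contra hne
    push Not at hne
    obtain ⟨hab, hac, hbc⟩ := hne
    simp only [mem_insert] at ha hb hc
    rcases ha with rfl | ha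
    · have hb := hb.resolve_left (Ne.symm hab)
      have hc := hc.resolve_left (Ne.symm hac)
      exact h b hb c hc hbc (P.eq_line hbc hl hbl hcl ▸ hal)
    rcases hb with rfl | hb
    · have hc := hc.resolve_left (Ne.symm hbc)
      exact h a ha c hc hac (P.eq_line hac hl hal hcl ▸ hbl)
    rcases hc with rfl | hc
    · exact h a ha b hb hab (P.eq_line hab hl hal hbl ▸ hcl)
    rcases hS.of_mem hl ha hb hc hal hbl hcl hab with h' | h'
    exacts [hac h'.symm, hbc h'.symm]

/-- A quadrangle has exactly two points off its six sides, and they extend it to a hyperoval. -/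
lemma IsPlane.existsUnique_oval (P : IsPlane L) {S : Finset α} (hS4 : S.card = 4)
    (hS : Indep L S) : ∃! H, Oval L H ∧ S ⊆ H := by
  classical
  set U : Finset α := univ.filter fun x => ∀ a ∈ S, ∀ b ∈ S, a ≠ b → x ∉ line L a b with hU
  have hUS : ∀ x ∈ U, x ∉ S := by
    intro x hx hxS
    obtain ⟨b, hb, hbx⟩ := exists_mem_ne (by omega : 1 < S.card) x
    exact (mem_filter.1 hx).2 x hxS b hb hbx.symm (P.line_spec hbx.symm).2.1
  -- seen from a vertex
  have key : ∀ a ∈ S, U.card = 2 ∧ ∀ x ∈ U, ∀ y ∈ U, line L a x = line L a y → x = y := by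
    intro a ha
    obtain ⟨b, c, d, hbc, hbd, hcd, hbcd⟩ := card_eq_three.1
      (show (S.erase a).card = 3 by rw [card_erase_of_mem ha, hS4])
    have mS : ∀ v ∈ ({b, c, d} : Finset α), v ∈ S ∧ v ≠ a := fun v hv => by
      rw [← hbcd, mem_erase] at hv; exact ⟨hv.2, hv.1⟩
    obtain ⟨hb, hba⟩ := mS b (by simp)
    obtain ⟨hc, hca⟩ := mS c (by simp)
    obtain ⟨hd, hda⟩ := mS d (by simp)
    set M := (pencil L a).filter fun l => ∀ v ∈ S, v ∈ l → v = a with hMdef
    have hMc : M.card = 2 := by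
      have hsplit : pencil L a = M ∪ (S.erase a).image (line L a) := by
        ext l
        simp only [hMdef, mem_union, mem_filter, mem_image, mem_pencil, mem_erase]
        constructor
        · intro hl
          by_cases h : ∀ v ∈ S, v ∈ l → v = a
          · exact Or.inl ⟨hl, h⟩
          · push Not at h
            obtain ⟨v, hv, hvl, hva⟩ := h
            exact Or.inr ⟨v, ⟨hva, hv⟩, P.eq_line hva.symm hl.1 hl.2 hvl⟩
        · rintro (⟨hl, -⟩ | ⟨v, ⟨hva, -⟩, rfl⟩)
          · exact hl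
          · exact ⟨(P.line_spec hva.symm).1, (P.line_spec hva.symm).2.1⟩
      have hdisj : Disjoint M ((S.erase a).image (line L a)) := by
        rw [disjoint_left]
        intro l hlM hl
        obtain ⟨v, hv, rfl⟩ := mem_image.1 hl
        rw [mem_erase] at hv
        exact hv.1 ((mem_filter.1 hlM).2 v hv.2 (P.line_spec hv.1.symm).2.2)
      have hinj : Set.InjOn (line L a) (S.erase a : Finset α) := by
        intro v hv w hw he
        simp only [coe_erase, Set.mem_sdiff, mem_coe, Set.mem_singleton_iff] at hv hw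
        by_contra h
        rcases hS.of_mem (P.line_spec (Ne.symm hv.2)).1 ha hv.1 hw.1
          (P.line_spec (Ne.symm hv.2)).2.1 (P.line_spec (Ne.symm hv.2)).2.2
          (he ▸ (P.line_spec (Ne.symm hw.2)).2.2) (Ne.symm hv.2) with h' | h'
        exacts [hw.2 h', h h'.symm]
      have := P.card_pencil a
      rw [hsplit, card_union_of_disjoint hdisj, card_image_of_injOn hinj,
        card_erase_of_mem ha, hS4] at this
      omega
    -- on each of the two free lines exactly one point is free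
    have one : ∀ l ∈ M, ∃! x, x ∈ l ∧ x ∈ U := by
      intro l hl
      rw [hMdef, mem_filter, mem_pencil] at hl
      obtain ⟨⟨hlL, hal⟩, hlS⟩ := hl
      have side : ∀ v w : α, v ∈ S → w ∈ S → v ≠ w → v ≠ a → w ≠ a →
          ∃ y, y ∈ l ∧ y ∈ line L v w ∧ y ≠ a ∧ l ∩ line L v w = {y} := by
        intro v w hv hw hvw hva hwa
        have hn := P.line_spec hvw
        obtain ⟨y, hyl, hyn⟩ := P.meet hlL hn.1
        have hna : a ∉ line L v w := fun h => by
          rcases hS.of_mem hn.1 hv hw ha hn.2.1 hn.2.2 h hvw with h' | h'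
          exacts [hva h'.symm, hwa h'.symm]
        refine ⟨y, hyl, hyn, fun h => hna (h ▸ hyn), ?_⟩
        ext z
        simp only [mem_inter, mem_singleton]
        refine ⟨fun hz => ?_, fun hz => hz ▸ ⟨hyl, hyn⟩⟩
        exact P.point_uniq (fun h : l = line L v w => hna (h ▸ hal)) hlL hn.1 hz.1 hyl hz.2 hyn
      have distinct : ∀ v w w' : α, v ∈ S → w ∈ S → w' ∈ S → v ≠ a → v ≠ w → v ≠ w' → w ≠ w' →
          ∀ y, y ∈ l → y ∈ line L v w → y ∈ line L v w' → False := by
        intro v w w' hv hw hw' hva hvw hvw' hww y hyl h1 h2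
        have hyv : y ≠ v := fun h => hva (hlS v hv (h ▸ hyl))
        have e : line L v w = line L v w' := P.line_uniq hyv (P.line_spec hvw).1
          (P.line_spec hvw').1 h1 (P.line_spec hvw).2.1 h2 (P.line_spec hvw').2.1
        rcases hS.of_mem (P.line_spec hvw).1 hv hw hw' (P.line_spec hvw).2.1 (P.line_spec hvw).2.2
          (e ▸ (P.line_spec hvw').2.2) hvw with h' | h'
        exacts [hvw' h'.symm, hww h'.symm]
      obtain ⟨y₁, h1l, h1n, h1a, e1⟩ := side b c hb hc hbc hba hca
      obtain ⟨y₂, h2l, h2n, h2a, e2⟩ := side b d hb hd hbd hba hda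
      obtain ⟨y₃, h3l, h3n, h3a, e3⟩ := side c d hc hd hcd hca hda
      have d12 : y₁ ≠ y₂ := fun h => distinct b c d hb hc hd hba hbc hbd hcd y₁ h1l h1n (h ▸ h2n)
      have comm : ∀ v w : α, v ≠ w → line L v w = line L w v := fun v w h =>
        P.eq_line h (P.line_spec h.symm).1 (P.line_spec h.symm).2.2 (P.line_spec h.symm).2.1
      have d13 : y₁ ≠ y₃ := fun h => distinct c b d hc hb hd hca hbc.symm hcd hbd y₁ h1l
        (comm b c hbc ▸ h1n) (h ▸ h3n)
      have d23 : y₂ ≠ y₃ := fun h => distinct d b c hd hb hc hda hbd.symm hcd.symm hbc y₂ h2l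
        (comm b d hbd ▸ h2n) (comm c d hcd ▸ h ▸ h3n)
      have hcard : (l \ {a, y₁, y₂, y₃}).card = 1 := by
        rw [card_sdiff_of_subset (by simp [insert_subset_iff, hal, h1l, h2l, h3l]),
          P.steiner.1 l hlL, card_insert_of_notMem (by simp [Ne.symm h1a, Ne.symm h2a, Ne.symm h3a]),
          card_insert_of_notMem (by simp [d12, d13]), card_pair d23]
      obtain ⟨x, hx⟩ := card_eq_one.1 hcard
      have hxm : x ∈ l \ {a, y₁, y₂, y₃} := hx ▸ mem_singleton_self x
      simp only [mem_sdiff, mem_insert, mem_singleton, not_or] at hxm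
      obtain ⟨hxl, hxa, hx1, hx2, hx3⟩ := hxm
      have hxU : x ∈ U := by
        rw [hU, mem_filter]
        refine ⟨mem_univ x, fun v hv w hw hvw hxn => ?_⟩
        have hn := P.line_spec hvw
        by_cases hva : v = a
        · subst hva
          exact hxa (P.point_uniq (fun h : l = line L v w => hvw (hlS w hw (h ▸ hn.2.2)).symm)
            hlL hn.1 hxl hal hxn hn.2.1)
        by_cases hwa : w = a
        · subst hwa
          exact hxa (P.point_uniq (fun h : l = line L v w => hvw (hlS v hv (h ▸ hn.2.1)))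
            hlL hn.1 hxl hal hxn hn.2.2)
        have hv' : v ∈ ({b, c, d} : Finset α) := hbcd ▸ mem_erase.2 ⟨hva, hv⟩
        have hw' : w ∈ ({b, c, d} : Finset α) := hbcd ▸ mem_erase.2 ⟨hwa, hw⟩
        simp only [mem_insert, mem_singleton] at hv' hw'
        have r1 : x ∉ line L b c := fun h => hx1 (mem_singleton.1 (e1 ▸ mem_inter.2 ⟨hxl, h⟩))
        have r2 : x ∉ line L b d := fun h => hx2 (mem_singleton.1 (e2 ▸ mem_inter.2 ⟨hxl, h⟩))
        have r3 : x ∉ line L c d := fun h => hx3 (mem_singleton.1 (e3 ▸ mem_inter.2 ⟨hxl, h⟩))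
        rcases hv' with rfl | rfl | rfl <;> rcases hw' with rfl | rfl | rfl <;>
          first
          | exact hvw rfl
          | exact r1 hxn
          | exact r2 hxn
          | exact r3 hxn
          | exact r1 (comm _ _ hvw ▸ hxn)
          | exact r2 (comm _ _ hvw ▸ hxn)
          | exact r3 (comm _ _ hvw ▸ hxn)
      refine ⟨x, ⟨hxl, hxU⟩, fun z ⟨hzl, hzU⟩ => ?_⟩
      have : z ∈ l \ {a, y₁, y₂, y₃} := by
        have hz := (mem_filter.1 hzU).2
        simp only [mem_sdiff, mem_insert, mem_singleton, not_or]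
        refine ⟨hzl, fun h => hUS z hzU (h ▸ ha), fun h => hz b hb c hc hbc (h ▸ h1n),
          fun h => hz b hb d hd hbd (h ▸ h2n), fun h => hz c hc d hd hcd (h ▸ h3n)⟩
      rw [hx] at this
      exact mem_singleton.1 this
    have toM : ∀ x ∈ U, line L a x ∈ M := by
      intro x hx
      have hax : a ≠ x := fun h => hUS x hx (h ▸ ha)
      rw [hMdef, mem_filter, mem_pencil]
      refine ⟨⟨(P.line_spec hax).1, (P.line_spec hax).2.1⟩, fun v hv hvl => ?_⟩
      by_contra hva
      exact (mem_filter.1 hx).2 a ha v hv (Ne.symm hva)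
        (P.eq_line (Ne.symm hva) (P.line_spec hax).1 (P.line_spec hax).2.1 hvl ▸
          (P.line_spec hax).2.2)
    have inj : ∀ x ∈ U, ∀ y ∈ U, line L a x = line L a y → x = y := fun x hx y hy e => by
      have hax : a ≠ x := fun h => hUS x hx (h ▸ ha)
      have hay : a ≠ y := fun h => hUS y hy (h ▸ ha)
      exact (one _ (toM x hx)).unique ⟨(P.line_spec hax).2.2, hx⟩
        ⟨e ▸ (P.line_spec hay).2.2, hy⟩
    refine ⟨?_, inj⟩
    rw [← hMc, ← card_image_of_injOn inj]
    congr 1
    ext l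
    rw [mem_image]
    refine ⟨fun ⟨x, hx, e⟩ => e ▸ toM x hx, fun hl => ?_⟩
    obtain ⟨x, ⟨hxl, hxU⟩, -⟩ := one l hl
    have hl' := (mem_filter.1 (show l ∈ (pencil L a).filter _ from hMdef ▸ hl)).1
    exact ⟨x, hxU, P.eq_line (fun h => hUS x hxU (h ▸ ha)) (mem_pencil.1 hl').1
      (mem_pencil.1 hl').2 hxl⟩
  obtain ⟨a₀, ha₀⟩ := card_pos.1 (by omega : 0 < S.card)
  have hU2 := (key a₀ ha₀).1
  have hdisj : Disjoint S U := disjoint_right.2 hUS
  refine ⟨S ∪ U, ⟨⟨by rw [card_union_of_disjoint hdisj, hS4, hU2], ?_⟩, subset_union_left⟩, ?_⟩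
  · obtain ⟨u, w, huw, hUeq⟩ := card_eq_two.1 hU2
    have hu : u ∈ U := by simp [hUeq]
    have hw : w ∈ U := by simp [hUeq]
    have h1 : Indep L (insert u S) := (indep_insert_iff hS P (hUS u hu)).2 (mem_filter.1 hu).2
    have hwn : w ∉ insert u S := by simp [huw.symm, hUS w hw]
    have := (indep_insert_iff h1 P hwn).2 fun v hv z hz hvz hwl => by
      have hn := P.line_spec hvz
      rcases mem_insert.1 hv with hvu | hvS <;> rcases mem_insert.1 hz with hzu | hzS
      · exact hvz (hvu.trans hzu.symm)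
      · refine huw ((key z hzS).2 u hu w hw ?_)
        rw [P.eq_line (fun h : z = u => hUS u hu (by rw [← h]; exact hzS)) hn.1 hn.2.2
            (by rw [← hvu]; exact hn.2.1),
          P.eq_line (fun h : z = w => hUS w hw (by rw [← h]; exact hzS)) hn.1 hn.2.2 hwl]
      · refine huw ((key v hvS).2 u hu w hw ?_)
        rw [P.eq_line (fun h : v = u => hUS u hu (by rw [← h]; exact hvS)) hn.1 hn.2.1
            (by rw [← hzu]; exact hn.2.2),
          P.eq_line (fun h : v = w => hUS w hw (by rw [← h]; exact hvS)) hn.1 hn.2.1 hwl]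
      · exact (mem_filter.1 hw).2 v hvS z hzS hvz hwl
    have e : S ∪ U = insert w (insert u S) := by
      ext z; simp [hUeq]; tauto
    rwa [e]
  · rintro H ⟨⟨hH6, hH⟩, hSH⟩
    apply eq_of_subset_of_card_le _ (by rw [card_union_of_disjoint hdisj, hS4, hU2, hH6])
    intro x hx
    by_cases hxS : x ∈ S
    · exact mem_union_left _ hxS
    · refine mem_union_right _ (mem_filter.2 ⟨mem_univ x, ?_⟩)
      exact ((indep_insert_iff hS P hxS).1 (hH.mono (insert_subset hx hSH)))

end Cfsg.Agent.Lib.PlaneFour.Basic
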