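import Cfsg.Agent.Lib.PlaneFour.Basic

/-!
Counting independent sets in a plane of order 4.
-/

namespace Cfsg.Agent.Lib.PlaneFour.Count

open Finset Cfsg.Agent.Lib.PlaneFour.Basic

set_option linter.unusedSectionVars false

variable {α : Type*} [Fintype α] [DecidableEq α] {L : Set (Finset α)}

open Classical in
/-- The independent `k`-sets. -/
noncomputable def sets (L : Set (Finset α)) (k : ℕ) : Finset (Finset α) :=
  univ.filter fun S => S.card = k ∧ Indep L S

lemma mem_sets {k : ℕ} {S : Finset α} : S ∈ sets L k ↔ S.card = k ∧ Indep L S := by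
  simp [sets]

open Classical in
lemma step (k e : ℕ)
    (he : ∀ S : Finset α, S.card = k → Indep L S →
      (univ.filter fun x => x ∉ S ∧ Indep L (insert x S)).card = e) :
    (sets L k).card * e = (sets L (k + 1)).card * (k + 1) := by
  refine card_mul_eq_card_mul (fun S T => S ⊆ T) (fun S hS => ?_) (fun T hT => ?_)
  · obtain ⟨hS1, hS2⟩ := mem_sets.1 hS
    rw [← he S hS1 hS2]
    refine (card_bij (fun x _ => insert x S) ?_ ?_ ?_).symm
    · intro x hx
      simp only [mem_filter, mem_univ, true_and] at hx
      simp only [bipartiteAbove, mem_filter, mem_sets]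
      exact ⟨⟨by rw [card_insert_of_notMem hx.1, hS1], hx.2⟩, subset_insert x S⟩
    · intro x hx y hy hxy
      simp only [mem_filter, mem_univ, true_and] at hx hy
      exact ((mem_insert.1 (hxy ▸ mem_insert_self x S)).resolve_right hx.1)
    · intro T hT
      simp only [bipartiteAbove, mem_filter, mem_sets] at hT
      obtain ⟨⟨hT1, hT2⟩, hsub⟩ := hT
      obtain ⟨x, hx, rfl⟩ := covBy_iff_exists_insert.1
        (covBy_iff_card_sdiff_eq_one.2 ⟨hsub, by rw [card_sdiff_of_subset hsub, hT1, hS1]; omega⟩)
      exact ⟨x, by simp [hx, hT2], rfl⟩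
  · obtain ⟨hT1, hT2⟩ := mem_sets.1 hT
    have : bipartiteBelow (fun S T => S ⊆ T) (sets L k) T = T.powersetCard k := by
      ext S
      simp only [bipartiteBelow, mem_filter, mem_sets, mem_powersetCard]
      exact ⟨fun h => ⟨h.2, h.1.1⟩, fun h => ⟨⟨h.2, hT2.mono h.1⟩, h.1⟩⟩
    rw [this, card_powersetCard, hT1, Nat.choose_succ_self_right]

lemma indep_small {S : Finset α} (h : S.card ≤ 2) : Indep L S :=
  fun _ _ => (card_le_card inter_subset_right).trans h

lemma card_two (P : IsPlane L) : (sets L 2).card = 210 := by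
  classical
  have : sets L 2 = (univ : Finset α).powersetCard 2 := by
    ext S
    simp only [mem_sets, mem_powersetCard, subset_univ, true_and]
    exact ⟨fun h => h.1, fun h => ⟨h, indep_small h.le⟩⟩
  rw [this, card_powersetCard, card_univ, P.card]
  rfl

lemma card_three (P : IsPlane L) : (sets L 3).card = 1120 := by
  classical
  have h := step (L := L) 2 16 (fun S hS hS' => by
    obtain ⟨a, b, hab, rfl⟩ := card_eq_two.1 hS
    have hl := P.line_spec hab
    have e : (univ.filter fun x => x ∉ ({a, b} : Finset α) ∧ Indep L (insert x {a, b})) =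
        univ \ line L a b := by
      ext x
      simp only [mem_filter, mem_univ, true_and, mem_sdiff]
      constructor
      · rintro ⟨hx, h⟩
        exact (indep_insert_iff hS' P hx).1 h a (by simp) b (by simp) hab
      · intro hx
        have hxS : x ∉ ({a, b} : Finset α) := by
          simp only [mem_insert, mem_singleton, not_or]
          exact ⟨fun h => hx (h ▸ hl.2.1), fun h => hx (h ▸ hl.2.2)⟩
        refine ⟨hxS, (indep_insert_iff hS' P hxS).2 fun u hu v hv huv => ?_⟩
        simp only [mem_insert, mem_singleton] at hu hv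
        rcases hu with rfl | rfl <;> rcases hv with rfl | rfl
        · exact absurd rfl huv
        · exact hx
        · rw [P.eq_line huv hl.1 hl.2.2 hl.2.1]; exact hx
        · exact absurd rfl huv
    rw [e, card_sdiff_of_subset (subset_univ _), card_univ, P.card, P.steiner.1 _ hl.1])
  rw [card_two P, show (2 : ℕ) + 1 = 3 from rfl] at h
  omega

lemma card_four (P : IsPlane L) : (sets L 4).card = 2520 := by
  classical
  have h := step (L := L) 3 9 (fun S hS hS' => by
    obtain ⟨a, b, c, hab, hac, hbc, rfl⟩ := card_eq_three.1 hS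
    have l1 := P.line_spec hab
    have l2 := P.line_spec hac
    have l3 := P.line_spec hbc
    have out : ∀ {l : Finset α}, l ∈ L → a ∈ l → b ∈ l → c ∉ l := fun hl ha hb hc => by
      rcases hS'.of_mem hl (a := a) (b := b) (c := c) (by simp) (by simp) (by simp) ha hb hc hab
        with h | h
      exacts [hac h.symm, hbc h.symm]
    have n12 : line L a b ≠ line L a c := fun h => out l1.1 l1.2.1 l1.2.2 (h ▸ l2.2.2)
    have n13 : line L a b ≠ line L b c := fun h => out l1.1 l1.2.1 l1.2.2 (h ▸ l3.2.2)
    have n23 : line L a c ≠ line L b c := fun h => out l3.1 (h ▸ l2.2.1) l3.2.1 l3.2.2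
    have e : (univ.filter fun x => x ∉ ({a, b, c} : Finset α) ∧ Indep L (insert x {a, b, c})) =
        univ \ ((line L a b ∪ line L a c) ∪ line L b c) := by
      ext x
      simp only [mem_filter, mem_univ, true_and, mem_sdiff, mem_union, not_or]
      constructor
      · rintro ⟨hx, h⟩
        have h' := (indep_insert_iff hS' P hx).1 h
        exact ⟨⟨h' a (by simp) b (by simp) hab, h' a (by simp) c (by simp) hac⟩,
          h' b (by simp) c (by simp) hbc⟩
      · rintro ⟨⟨x1, x2⟩, x3⟩
        have hxS : x ∉ ({a, b, c} : Finset α) := by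
          simp only [mem_insert, mem_singleton, not_or]
          exact ⟨fun h => x1 (h ▸ l1.2.1), fun h => x1 (h ▸ l1.2.2), fun h => x2 (h ▸ l2.2.2)⟩
        refine ⟨hxS, (indep_insert_iff hS' P hxS).2 fun u hu v hv huv => ?_⟩
        simp only [mem_insert, mem_singleton] at hu hv
        rcases hu with rfl | rfl | rfl <;> rcases hv with rfl | rfl | rfl <;>
          first
          | exact absurd rfl huv
          | exact x1
          | exact x2
          | exact x3
          | (rw [P.eq_line huv l1.1 l1.2.2 l1.2.1]; exact x1)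
          | (rw [P.eq_line huv l2.1 l2.2.2 l2.2.1]; exact x2)
          | (rw [P.eq_line huv l3.1 l3.2.2 l3.2.1]; exact x3)
    have i12 : line L a b ∩ line L a c = {a} := by
      ext z
      simp only [mem_inter, mem_singleton]
      exact ⟨fun hz => P.point_uniq n12 l1.1 l2.1 hz.1 l1.2.1 hz.2 l2.2.1,
        fun hz => by rw [hz]; exact ⟨l1.2.1, l2.2.1⟩⟩
    have i3 : (line L a b ∪ line L a c) ∩ line L b c = {b, c} := by
      ext z
      simp only [mem_inter, mem_union, mem_insert, mem_singleton]
      constructor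
      · rintro ⟨hz | hz, hz'⟩
        · exact Or.inl (P.point_uniq n13 l1.1 l3.1 hz l1.2.2 hz' l3.2.1)
        · exact Or.inr (P.point_uniq n23 l2.1 l3.1 hz l2.2.2 hz' l3.2.2)
      · rintro (hz | hz)
        · rw [hz]; exact ⟨Or.inl l1.2.2, l3.2.1⟩
        · rw [hz]; exact ⟨Or.inr l2.2.2, l3.2.2⟩
    have c12 := card_union_add_card_inter (line L a b) (line L a c)
    have c3 := card_union_add_card_inter (line L a b ∪ line L a c) (line L b c)
    rw [i12, card_singleton, P.steiner.1 _ l1.1, P.steiner.1 _ l2.1] at c12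
    rw [i3, card_pair hbc, P.steiner.1 _ l3.1] at c3
    rw [e, card_sdiff_of_subset (subset_univ _), card_univ, P.card]
    omega)
  rw [card_three P, show (3 : ℕ) + 1 = 4 from rfl] at h
  omega

lemma card_six (P : IsPlane L) : (sets L 6).card = 168 := by
  classical
  have h := card_mul_eq_card_mul (fun (S H : Finset α) => S ⊆ H) (s := sets L 4) (t := sets L 6)
    (m := 1) (n := 15) (fun S hS => ?_) (fun H hH => ?_)
  · rw [card_four P] at h
    omega
  · obtain ⟨hS1, hS2⟩ := mem_sets.1 hS
    obtain ⟨H, hH, hu⟩ := P.existsUnique_oval hS1 hS2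
    refine card_eq_one.2 ⟨H, ?_⟩
    ext T
    simp only [bipartiteAbove, mem_filter, mem_sets, mem_singleton]
    exact ⟨fun h => hu T ⟨h.1, h.2⟩, fun h => h ▸ ⟨hH.1, hH.2⟩⟩
  · obtain ⟨hH1, hH2⟩ := mem_sets.1 hH
    have : bipartiteBelow (fun S H => S ⊆ H) (sets L 4) H = H.powersetCard 4 := by
      ext S
      simp only [bipartiteBelow, mem_filter, mem_sets, mem_powersetCard]
      exact ⟨fun h => ⟨h.2, h.1.1⟩, fun h => ⟨⟨h.2, hH2.mono h.1⟩, h.1⟩⟩
    rw [this, card_powersetCard, hH1]
    rfl

lemma exists_oval (P : IsPlane L) : ∃ H : Finset α, Oval L H := by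
  obtain ⟨H, hH⟩ := card_pos.1 (by rw [card_six P]; norm_num : 0 < (sets L 6).card)
  exact ⟨H, (mem_sets.1 hH)⟩

end Cfsg.Agent.Lib.PlaneFour.Count
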